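import Cfsg.Agent.Chars.Induced.Clifford
import Cfsg.Agent.Chars.Induced.Extension
import Cfsg.Agent.Glauberman.Sub
import Mathlib.GroupTheory.Nilpotent
import Mathlib.GroupTheory.PGroup

/-!
# Characters of degree prime to a prime

Constituents of degree prime to a prime, invariant characters of a normal subgroup of order prime
to the prime below them, and the existence of characters of degree prime to the prime lying over
invariant characters.
-/

noncomputable section

namespace CfsgLib.Chars.Apps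

open Cfsg CfsgLib.Chars CfsgLib.Chars.Induced
open scoped CfsgLib.Glauberman

universe u

variable {G : Type u} [Group G] [Fintype G] {p : ℕ}

/-- The degree of a character is a combination of the degrees of its constituents. -/
theorem exists_mult_ne_zero_not_dvd {χ : G → ℂ} (hχ : IsCharacter G χ) {d : ℕ} (hd : χ 1 = d)
    (h : ¬ p ∣ d) :
    ∃ η : IrrCharacter G, mult χ η ≠ 0 ∧ ¬ p ∣ charDegree (η : G → ℂ) := by
  classical
  obtain ⟨s, hmem, hs⟩ := exists_eq_sum_mult hχ
  by_contra! hall
  refine h ?_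
  have hsum : d = ∑ η ∈ s, mult χ η * charDegree (η : G → ℂ) := by
    apply Nat.cast_injective (R := ℂ)
    rw [← hd, congrFun hs 1, Finset.sum_apply, Nat.cast_sum]
    refine Finset.sum_congr rfl fun η _ => ?_
    rw [Nat.cast_mul, coe_charDegree η]
    rfl
  rw [hsum]
  exact Finset.dvd_sum fun η hη => dvd_mul_of_dvd_right (hall η ((hmem η).1 hη)) _

theorem charDegree_eq_one_of_isPGroup [Fact p.Prime] (hP : IsPGroup p G) (η : IrrCharacter G)
    (h : ¬ p ∣ charDegree (η : G → ℂ)) : charDegree (η : G → ℂ) = 1 := by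
  obtain ⟨n, hn⟩ := IsPGroup.iff_card.1 hP
  obtain ⟨k, -, hk⟩ := (Nat.dvd_prime_pow Fact.out).1 (hn ▸ charDegree_dvd_card η)
  rcases Nat.eq_zero_or_pos k with rfl | hk0
  · simpa using hk
  · exact absurd (hk ▸ dvd_pow_self p hk0.ne') h

/-- A character of degree prime to `p` of a `p`-group has a linear constituent. -/
theorem exists_linear_constituent [Fact p.Prime] (hP : IsPGroup p G) {χ : G → ℂ}
    (hχ : IsCharacter G χ) {d : ℕ} (hd : χ 1 = d) (h : ¬ p ∣ d) :
    ∃ l : G →* ℂˣ, mult χ (linChar l) ≠ 0 := by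
  obtain ⟨η, hη, hη'⟩ := exists_mult_ne_zero_not_dvd hχ hd h
  obtain ⟨l, hl⟩ := exists_monoidHom_of_map_one_eq_one (isCharacter_coe η)
    (by rw [← coe_charDegree η, charDegree_eq_one_of_isPGroup hP η hη', Nat.cast_one])
  refine ⟨l, ?_⟩
  rwa [show linChar l = η from Subtype.ext (funext fun g => (hl g).symm)]

variable (N : Subgroup G) [N.Normal] [Fintype N]

/-- If the trivial character is a constituent of the restriction to a normal subgroup, the normal
subgroup lies in the kernel. -/
theorem eq_map_one_of_mult_oneChar (χ : IrrCharacter G)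
    (h : mult (fun n : N => (χ : G → ℂ) n) (oneChar N) ≠ 0) :
    ∀ n ∈ N, (χ : G → ℂ) n = (χ : G → ℂ) 1 := by
  classical
  intro n hn
  have hconst : ∀ η : IrrCharacter N,
      η ∈ (Set.finite_range fun x : G => conjIrr x (oneChar N)).toFinset →
        ∀ m : N, (η : N → ℂ) m = 1 := by
    intro η hη m
    obtain ⟨x, rfl⟩ := (Set.Finite.mem_toFinset _).1 hη
    rw [conjIrr_coe, conjFun_apply]
    exact oneChar_apply _
  have hval : ∀ m : N, (χ : G → ℂ) m = (mult (fun n : N => (χ : G → ℂ) n) (oneChar N) : ℂ) *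
      ((Set.finite_range fun x : G => conjIrr x (oneChar N)).toFinset.card : ℂ) := by
    intro m
    have h1 := congrFun (clifford χ (oneChar N) h) m
    simp only [Pi.smul_apply, Finset.sum_apply, smul_eq_mul] at h1
    rw [h1, Finset.sum_congr rfl (g := fun _ => (1 : ℂ)) fun η hη => hconst η hη m]
    simp
  exact (hval ⟨n, hn⟩).trans (hval 1).symm

variable {N}

omit [Fintype G] [Fintype N] in
/-- A `p`-subgroup fixes a character in any orbit of size prime to `p`. -/
theorem exists_fixed_in_conjOrbit [Finite G] [Fact p.Prime] (P : Subgroup G) (hP : IsPGroup p P)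
    (θ₀ : IrrCharacter N) (hidx : ¬ p ∣ (inertia N (θ₀ : N → ℂ)).index) :
    ∃ η : IrrCharacter N, η ∈ conjOrbit θ₀ ∧ P ≤ inertia N (η : N → ℂ) := by
  let _ : MulAction G (IrrCharacter N) := conjIrrAction N
  let O : SubMulAction P (IrrCharacter N) :=
    { carrier := conjOrbit θ₀
      smul_mem' := fun s {η} hη => conjIrr_mem_conjOrbit (s : G) hη }
  have hcard : ¬ p ∣ Nat.card O := by
    have h1 : Nat.card O = Nat.card (conjOrbit θ₀) := rfl
    rw [h1, card_conjOrbit]
    exact hidx
  obtain ⟨η, hη⟩ := hP.nonempty_fixed_point_of_prime_not_dvd_card O hcard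
  refine ⟨η.1, η.2, fun s hs => ?_⟩
  have h2 : ((⟨s, hs⟩ : P) • η).1 = η.1 := congrArg Subtype.val (hη ⟨s, hs⟩)
  rw [mem_inertia]
  exact congrArg Subtype.val (show conjIrr s η.1 = η.1 from h2)

/-- An irreducible character of degree prime to `p` has below it a character of a normal
subgroup that is invariant under a given `p`-subgroup. -/
theorem exists_invariant_constituent [Fact p.Prime] (P : Subgroup G) (hP : IsPGroup p P)
    (χ : IrrCharacter G) (h : ¬ p ∣ charDegree (χ : G → ℂ)) :
    ∃ θ : IrrCharacter N, mult (fun n : N => (χ : G → ℂ) n) θ ≠ 0 ∧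
      P ≤ inertia N (θ : N → ℂ) := by
  classical
  have hres := isCharacter_restrict (isCharacter_coe χ) N
  obtain ⟨θ₀, hθ₀⟩ := exists_mult_ne_zero hres (fun h0 => map_one_ne_zero χ (congrFun h0 1))
  have hidx : ¬ p ∣ (inertia N (θ₀ : N → ℂ)).index := by
    refine fun hd => h (hd.trans ?_)
    have hcl := clifford_one χ θ₀ hθ₀
    rw [← coe_charDegree χ, ← coe_charDegree θ₀] at hcl
    exact ⟨mult (fun n : N => (χ : G → ℂ) n) θ₀ * charDegree (θ₀ : N → ℂ),
      Nat.cast_injective (R := ℂ) (by push_cast; rw [hcl]; ring)⟩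
  obtain ⟨η, hη₀, hη⟩ := exists_fixed_in_conjOrbit P hP θ₀ hidx
  refine ⟨η, ?_, hη⟩
  obtain ⟨x, rfl⟩ := hη₀
  rwa [mult_restrict_conjIrr (isClassFunction_coe χ)]

omit [Fintype G] [Fintype N] in
/-- The invariant characters of a normal subgroup of order prime to `p` under a `p`-subgroup are
as many as the classes of the centraliser. -/
theorem card_invariant_irr [Finite G] [Fact p.Prime] (P : Subgroup G) (hP : IsPGroup p P)
    (hN : ¬ p ∣ Nat.card N) :
    Nat.card {θ : IrrCharacter N // P ≤ inertia N (θ : N → ℂ)} =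
      Nat.card (ConjClasses ↥(N ⊓ Subgroup.centralizer (P : Set G))) := by
  have hnorm : ∀ s ∈ P, ∀ g ∈ N, s * g * s⁻¹ ∈ N :=
    fun s _ g hg => Subgroup.Normal.conj_mem inferInstance g hg s
  let _ := Glauberman.conjSubAction N P hnorm
  obtain ⟨a, ha⟩ := IsPGroup.iff_card.1 hP
  have hcop : (Nat.card N).Coprime (Nat.card P) := by
    rw [ha]
    exact Nat.Coprime.pow_right _ ((Fact.out : p.Prime).coprime_iff_not_dvd.2 hN).symm
  have : Group.IsNilpotent P := hP.isNilpotent
  have e1 : {θ : IrrCharacter N // P ≤ inertia N (θ : N → ℂ)} ≃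
      MulAction.fixedPoints P (IrrCharacter N) := Equiv.subtypeEquivRight fun θ => by
    rw [← Glauberman.invariant_iff hnorm θ]
    exact ⟨fun h s hs g g' hg => mem_inertia_iff_forall.1 (h hs) g g' hg,
      fun h s hs => mem_inertia_iff_forall.2 (h s hs)⟩
  have e2 : FixedPoints.subgroup P N ≃* ↥(N ⊓ Subgroup.centralizer (P : Set G)) :=
    { toFun := fun g => ⟨g.1.1, g.1.2, fun s hs => by
        have h1 : s * (g.1 : G) * s⁻¹ = g.1 := congrArg Subtype.val (g.2 ⟨s, hs⟩)
        calc s * (g.1 : G) = s * (g.1 : G) * s⁻¹ * s := by group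
          _ = (g.1 : G) * s := by rw [h1]⟩
      invFun := fun g => ⟨⟨g.1, g.2.1⟩, fun s => Subtype.ext (by
        show (s : G) * g.1 * (s : G)⁻¹ = g.1
        rw [g.2.2 _ s.2, mul_inv_cancel_right])⟩
      left_inv := fun g => rfl
      right_inv := fun g => rfl
      map_mul' := fun g h => rfl }
  rw [Nat.card_congr e1, Glauberman.card_fixed_irr_eq_card_fixed_classes hcop,
    Nat.card_congr (Glauberman.classEquiv hP hN), ← Glauberman.card_conjClasses_congr e2]

omit [Fintype G] [Fintype N] in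
theorem eq_oneChar_of_invariant [Finite G] [Fact p.Prime] (P : Subgroup G) (hP : IsPGroup p P)
    (hN : ¬ p ∣ Nat.card N) (hC : N ⊓ Subgroup.centralizer (P : Set G) = ⊥)
    (θ : IrrCharacter N) (hθ : P ≤ inertia N (θ : N → ℂ)) : θ = oneChar N := by
  have h1 := card_invariant_irr P hP hN
  have : Subsingleton ↥(N ⊓ Subgroup.centralizer (P : Set G)) := by rw [hC]; infer_instance
  have hone : Subsingleton (ConjClasses ↥(N ⊓ Subgroup.centralizer (P : Set G))) :=
    ConjClasses.mk_surjective.subsingleton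
  rw [Nat.card_of_subsingleton (ConjClasses.mk
    (1 : ↥(N ⊓ Subgroup.centralizer (P : Set G))))] at h1
  obtain ⟨hs, -⟩ := Nat.card_eq_one_iff_unique.1 h1
  have hinv1 : P ≤ inertia N ((oneChar N : IrrCharacter N) : N → ℂ) := fun s _ =>
    mem_inertia_iff_forall.2 fun n n' _ => by simp [oneChar_apply]
  exact congrArg Subtype.val
    (hs.elim ⟨θ, hθ⟩ ⟨oneChar N, hinv1⟩)

omit [Fintype G] [Fintype N] in
theorem exists_invariant_ne_oneChar [Finite G] [Fact p.Prime] (P : Subgroup G)
    (hP : IsPGroup p P) (hN : ¬ p ∣ Nat.card N)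
    (hC : N ⊓ Subgroup.centralizer (P : Set G) ≠ ⊥) :
    ∃ θ : IrrCharacter N, θ ≠ oneChar N ∧ P ≤ inertia N (θ : N → ℂ) := by
  by_contra! hall
  have h1 := card_invariant_irr P hP hN
  have hsub : Subsingleton {θ : IrrCharacter N // P ≤ inertia N (θ : N → ℂ)} :=
    ⟨fun a b => Subtype.ext <| (not_not.1 fun h => hall a.1 h a.2).trans
      (not_not.1 fun h => hall b.1 h b.2).symm⟩
  obtain ⟨c, hc, hc1⟩ := (N ⊓ Subgroup.centralizer (P : Set G)).ne_bot_iff_exists_ne_one.1 hC
    |>.elim fun c hc => (⟨c.1, c.2, fun h => hc (Subtype.ext h)⟩ :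
      ∃ c : G, c ∈ N ⊓ Subgroup.centralizer (P : Set G) ∧ c ≠ 1)
  have h2 : 1 < Nat.card (ConjClasses ↥(N ⊓ Subgroup.centralizer (P : Set G))) :=
    Finite.one_lt_card_iff_nontrivial.2 ⟨ConjClasses.mk ⟨c, hc⟩, ConjClasses.mk 1, fun h => hc1 (by
      obtain ⟨g, hg⟩ := isConj_iff.1 (ConjClasses.mk_eq_mk_iff_isConj.1 h.symm)
      simpa using (congrArg Subtype.val hg).symm)⟩
  have h3 := Finite.card_le_one_iff_subsingleton.2 hsub
  omega

omit [N.Normal] [Fintype N] in
/-- A character of a subgroup of index prime to `p` with degree prime to `p` lies under an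
irreducible character of degree prime to `p`. -/
theorem exists_not_dvd_over [Fact p.Prime] (H : Subgroup G) [Fintype H] (hH : ¬ p ∣ H.index)
    (φ : IrrCharacter H) (hφ : ¬ p ∣ charDegree (φ : H → ℂ)) :
    ∃ χ : IrrCharacter G, ¬ p ∣ charDegree (χ : G → ℂ) ∧
      mult (fun h : H => (χ : G → ℂ) h) φ ≠ 0 := by
  obtain ⟨χ, hχ, hχ'⟩ := exists_mult_ne_zero_not_dvd (p := p)
    (isCharacter_indFun H (isCharacter_coe φ)) (d := H.index * charDegree (φ : H → ℂ))
    (by rw [indFun_one_apply, Nat.cast_mul, coe_charDegree φ])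
    (fun hd => ((Fact.out : p.Prime).dvd_mul.1 hd).elim hH hφ)
  exact ⟨χ, hχ', by rwa [← mult_indFun_irr]⟩

end CfsgLib.Chars.Apps
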