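import Cfsg.Agent.Eq.Def_Characters
import Cfsg.Agent.Eq.Def_LocalStructure
import Cfsg.Agent.LocalCharP.Residual
import Cfsg.Agent.Chars.Basic
import Cfsg.Agent.Chars.Induced.Extension
import Cfsg.Agent.Chars.Induced.Gallagher
import Cfsg.Agent.CharTable.InvariantMatrix
import Mathlib.Algebra.Field.ZMod

/-!
# Thompson: nonlinear degrees divisible by `p` give a normal `p`-complement

* `exists_normal_complement_of_dvd`.
-/

set_option autoImplicit false

namespace CfsgLib.Chars.Apps

open Cfsg CfsgLib.Chars CfsgLib.Chars.Induced CfsgLib.LocalCharP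

universe u

variable {G : Type u} [Group G] [Finite G] {p : ℕ} [hp : Fact p.Prime]

/-- Homomorphisms from `O^p(G)` to the units have order prime to `p`. -/
theorem orderOf_coprime_pResidual (l : pResidual p G →* ℂˣ) : (orderOf l).Coprime p := by
  obtain ⟨v, m, hm, hcard⟩ :=
    Nat.exists_eq_pow_mul_and_not_dvd (Nat.card_pos (α := pResidual p G)).ne' p hp.out.ne_one
  have hlm : l ^ m = 1 := by
    have key : pResidual p G ≤ (l ^ m).ker.map (pResidual p G).subtype := by
      refine pResidual_le fun x hx => ?_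
      refine ⟨⟨x, mem_pResidual hx⟩, ?_, rfl⟩
      rw [SetLike.mem_coe, MonoidHom.mem_ker, MonoidHom.pow_apply, ← map_pow]
      refine (congrArg l (orderOf_dvd_iff_pow_eq_one.1 ?_)).trans (map_one l)
      rw [← Subgroup.orderOf_coe]
      have h1 : orderOf x ∣ p ^ v * m := hcard ▸ Subgroup.orderOf_dvd_natCard _ (mem_pResidual hx)
      exact (Nat.Coprime.pow_right v hx).dvd_of_dvd_mul_left h1
    refine MonoidHom.ext fun x => ?_
    obtain ⟨y, hy, hyx⟩ := key x.2
    rw [show x = y from (Subtype.ext hyx).symm]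
    exact hy
  exact Nat.Coprime.coprime_dvd_left (orderOf_dvd_of_pow_eq_one hlm)
    ((hp.out.coprime_iff_not_dvd).2 hm).symm

/-- Thompson. -/
theorem exists_normal_complement_of_dvd
    (hdeg : ∀ χ : IrrCharacter G, charDegree (χ : G → ℂ) ≠ 1 → p ∣ charDegree (χ : G → ℂ)) :
    ∃ N : Subgroup G, N.Normal ∧ (Nat.card N).Coprime p ∧ ∃ k : ℕ, N.index = p ^ k := by
  classical
  set N := pResidual p G with hN
  obtain ⟨k, hk⟩ := IsPGroup.iff_card.1 (isPGroup_quotient_pResidual (p := p) (G := G))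
  rw [← Subgroup.index_eq_card] at hk
  refine ⟨N, inferInstance, ?_, k, hk⟩
  have := Fintype.ofFinite G
  have := Fintype.ofFinite N
  obtain ⟨P⟩ : Nonempty (Sylow p G) := inferInstance
  letI : MulAction G (IrrCharacter N) := conjIrrAction N
  have hsmul : ∀ (g : G) (θ : IrrCharacter N), g • θ = conjIrr g θ := fun _ _ => rfl
  have hfix : ∀ θ : IrrCharacter N, θ ∈ MulAction.fixedPoints (P : Subgroup G) (IrrCharacter N) →
      ∀ g : G, conjFun N g (θ : N → ℂ) = θ := by
    intro θ hθ g
    have hle : N ⊔ (P : Subgroup G) ≤ inertia N (θ : N → ℂ) :=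
      sup_le (le_inertia (isClassFunction_coe θ)) fun s hs =>
        mem_inertia.2 (congrArg Subtype.val (hθ ⟨s, hs⟩))
    exact mem_inertia.1 (hle (pResidual_sup_sylow P ▸ Subgroup.mem_top g))
  have hlin : ∀ θ : IrrCharacter N, θ ∈ MulAction.fixedPoints (P : Subgroup G) (IrrCharacter N) →
      ¬ p ∣ charDegree (θ : N → ℂ) → (θ : N → ℂ) 1 = 1 := by
    intro θ hθ hd
    have hcop : Nat.Coprime N.index (detOrder (θ : N → ℂ) * charDegree (θ : N → ℂ)) := by
      rw [hk, detOrder_eq (isCharacter_coe θ)]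
      exact Nat.Coprime.pow_left k (Nat.Coprime.mul_right
        (orderOf_coprime_pResidual _).symm (hp.out.coprime_iff_not_dvd.2 hd))
    obtain ⟨χ, hχ, -, -⟩ := exists_canonical_extension θ (hfix θ hθ) (coe_charDegree θ).symm hcop
    have h1 : charDegree (χ : G → ℂ) = charDegree (θ : N → ℂ) := charDegree_eq_of_map_one (by
      rw [← OneMemClass.coe_one N, hχ, coe_charDegree])
    by_contra hne
    exact hd (h1 ▸ hdeg χ (fun h => hne ((charDegree_eq_one_iff θ).1 (h1 ▸ h))))
  have hP : IsPGroup p (P : Subgroup G) := P.isPGroup'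
  have hinv : ∀ (s : (P : Subgroup G)) (θ : IrrCharacter N),
      ((charDegree ((s • θ : IrrCharacter N) : N → ℂ) : ZMod p)) ^ 2 =
        (charDegree (θ : N → ℂ) : ZMod p) ^ 2 := by
    intro s θ
    congr 2
    refine charDegree_eq_of_map_one ?_
    show conjFun N (s : G) (θ : N → ℂ) 1 = _
    rw [conjFun_apply, coe_charDegree]
    exact congrArg (θ : N → ℂ) (Subtype.ext (by simp))
  have hsum := CfsgLib.CharTable.sum_eq_sum_fixedPoints (k := ZMod p) hP
    (fun θ : IrrCharacter N => (charDegree (θ : N → ℂ) : ZMod p) ^ 2) hinv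
  have hN0 : (∑ θ : IrrCharacter N, (charDegree (θ : N → ℂ) : ZMod p) ^ 2) =
      (Nat.card N : ZMod p) := by
    rw [← sum_charDegree_sq (G := N), Nat.cast_sum]
    simp
  rw [hN0] at hsum
  let F : Subgroup (N →* ℂˣ) :=
    { carrier := {l | ∀ s ∈ (P : Subgroup G), ∀ x : N, l (MulAut.conjNormal s x) = l x}
      one_mem' := fun s _ x => rfl
      mul_mem' := fun {a b} ha hb s hs x => by
        show a _ * b _ = a x * b x
        rw [ha s hs, hb s hs]
      inv_mem' := fun {a} ha s hs x => by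
        show (a _)⁻¹ = (a x)⁻¹
        rw [ha s hs] }
  have hFp : ¬ p ∣ Nat.card F := by
    intro hd
    obtain ⟨l, hl⟩ := exists_prime_orderOf_dvd_card' (G := F) p hd
    have h1 := orderOf_coprime_pResidual (p := p) (l : N →* ℂˣ)
    rw [Subgroup.orderOf_coe, hl] at h1
    exact hp.out.ne_one ((Nat.coprime_self p).1 h1)
  have hFmem : ∀ l : N →* ℂˣ, (linChar l ∈ MulAction.fixedPoints (P : Subgroup G) (IrrCharacter N)) ↔
      l ∈ F := by
    intro l
    constructor
    · intro h s hs x
      have h1 := congrFun (congrArg Subtype.val (h ⟨s⁻¹, inv_mem hs⟩)) x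
      change conjFun N s⁻¹ (linChar l : N → ℂ) x = (linChar l : N → ℂ) x at h1
      rw [conjFun_apply, linChar_apply, linChar_apply] at h1
      refine Units.ext ?_
      rw [← h1]
      exact congrArg (fun y => (l y : ℂ)) (Subtype.ext (by simp))
    · intro h s
      refine Subtype.ext (funext fun x => ?_)
      show conjFun N (s : G) (linChar l : N → ℂ) x = _
      rw [conjFun_apply, linChar_apply, linChar_apply, ← h (s : G)⁻¹ (inv_mem s.2) x]
      exact congrArg (fun y => (l y : ℂ)) (Subtype.ext (by simp))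
  have hfsum : (∑ θ : MulAction.fixedPoints (P : Subgroup G) (IrrCharacter N),
      (charDegree (θ.1 : N → ℂ) : ZMod p) ^ 2) = (Nat.card F : ZMod p) := by
    rw [← Finset.sum_subset (Finset.filter_subset
      (fun θ : MulAction.fixedPoints (P : Subgroup G) (IrrCharacter N) => (θ.1 : N → ℂ) 1 = 1)
      Finset.univ) fun θ _ hθ => ?_]
    · rw [Finset.sum_congr rfl (g := fun _ => (1 : ZMod p)) fun θ hθ => by
        rw [(charDegree_eq_one_iff θ.1).2 (Finset.mem_filter.1 hθ).2, Nat.cast_one, one_pow],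
        Finset.sum_const, nsmul_eq_mul, mul_one, ← Fintype.card_subtype, ← Nat.card_eq_fintype_card]
      refine congrArg _ (Nat.card_congr (Equiv.ofBijective
        (fun l : F => (⟨⟨linChar l.1, (hFmem l.1).2 l.2⟩, linChar_map_one l.1⟩ :
          {θ : MulAction.fixedPoints (P : Subgroup G) (IrrCharacter N) // (θ.1 : N → ℂ) 1 = 1}))
        ⟨fun l l' h => Subtype.ext (linChar_injective (congrArg (fun z => z.1.1) h)),
          fun θ => ?_⟩).symm)
      obtain ⟨l, hl⟩ := exists_linChar_eq θ.1.1 θ.2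
      exact ⟨⟨l, (hFmem l).1 (hl ▸ θ.1.2)⟩, Subtype.ext (Subtype.ext hl)⟩
    · have h1 : p ∣ charDegree (θ.1 : N → ℂ) := by
        by_contra hd
        exact hθ (Finset.mem_filter.2 ⟨Finset.mem_univ _, hlin θ.1 θ.2 hd⟩)
      rw [(ZMod.natCast_eq_zero_iff _ p).2 h1, zero_pow two_ne_zero]
  rw [hfsum] at hsum
  refine (hp.out.coprime_iff_not_dvd.2 fun hd => hFp ?_).symm
  rw [← ZMod.natCast_eq_zero_iff, ← hsum, ZMod.natCast_eq_zero_iff]
  exact hd

end CfsgLib.Chars.Apps
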